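import Mathlib
import Groth.Prelude.Def_HopfRep
import Groth.Agent.Lib.Helper24.UnipSpec.Fil

/-!
# Helper24 — flagged right coideals of a bialgebra over an arbitrary base ring

`Flagged R H E`: the submodule `E` of `H` is obtained from `⊥` by successively adjoining single
elements `x` with `Δ x ∈ (E ⊔ R x) ⊗ H`.  Such `E` are right coideals; flagged submodules are closed
under `⊔` and base change.
-/

set_option autoImplicit false
universe u u' v

open TensorProduct Coalgebra

namespace Groth.Agent.Lib.Helper24.TrigSpec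

open Groth.Agent.Lib.Helper24.UnipSpec

section General
variable (R : Type u) [CommRing R] (H : Type v) [CommRing H] [Bialgebra R H]

/-- flagged submodules -/
inductive Flagged : Submodule R H → Prop
  | bot : Flagged ⊥
  | step (E : Submodule R H) (x : H) : Flagged E →
      comul (R := R) x ∈ LinearMap.range (LinearMap.rTensor H (E ⊔ Submodule.span R {x}).subtype) →
      Flagged (E ⊔ Submodule.span R {x})

variable {R H}

theorem range_rTensor_mono {P Q : Submodule R H} (h : P ≤ Q) :
    LinearMap.range (LinearMap.rTensor H P.subtype) ≤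
      LinearMap.range (LinearMap.rTensor H Q.subtype) := by
  rintro _ ⟨y, rfl⟩
  refine ⟨LinearMap.rTensor H (Submodule.inclusion h) y, ?_⟩
  rw [← LinearMap.comp_apply, ← LinearMap.rTensor_comp]
  rfl

/-- a flagged submodule is a right coideal -/
theorem Flagged.comul_mem {E : Submodule R H} (hE : Flagged R H E) :
    ∀ y ∈ E, comul (R := R) y ∈ LinearMap.range (LinearMap.rTensor H E.subtype) := by
  induction hE with
  | bot =>
    intro y hy
    rw [(Submodule.mem_bot R).mp hy, map_zero]
    exact zero_mem _
  | step E x _ hx ih =>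
    intro y hy
    obtain ⟨e, he, z, hz, rfl⟩ := Submodule.mem_sup.mp hy
    obtain ⟨c, rfl⟩ := Submodule.mem_span_singleton.mp hz
    rw [map_add, map_smul]
    exact add_mem (range_rTensor_mono le_sup_left (ih e he)) (Submodule.smul_mem _ _ hx)

theorem Flagged.sup {E E' : Submodule R H} (hE : Flagged R H E) (hE' : Flagged R H E') :
    Flagged R H (E ⊔ E') := by
  induction hE' with
  | bot => rwa [sup_bot_eq]
  | step E' x _ hx ih =>
    rw [← sup_assoc]
    refine Flagged.step _ x ih ?_
    rw [sup_assoc]
    exact range_rTensor_mono le_sup_right hx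

end General

section BaseChange
variable {R : Type u} [CommRing R] (S : Type u') [CommRing S] [Algebra R S]
  {H : Type v} [CommRing H] [Bialgebra R H]

/-- the `S`-span of `1 ⊗ E` -/
noncomputable def bc (E : Submodule R H) : Submodule S (S ⊗[R] H) :=
  Submodule.span S ((TensorProduct.mk R S H 1) '' (E : Set H))

theorem incl_mem_bc {E : Submodule R H} {x : H} (hx : x ∈ E) : (1 : S) ⊗ₜ[R] x ∈ bc S E :=
  Submodule.subset_span ⟨x, hx, rfl⟩

theorem bc_bot : bc S (⊥ : Submodule R H) = ⊥ := by
  rw [bc, Submodule.span_eq_bot]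
  rintro _ ⟨x, hx, rfl⟩
  rw [(Submodule.mem_bot R).mp hx, map_zero]

theorem bc_mono {E E' : Submodule R H} (h : E ≤ E') : bc S E ≤ bc S E' :=
  Submodule.span_mono (Set.image_mono h)

theorem bc_sup_span (E : Submodule R H) (x : H) :
    bc S (E ⊔ Submodule.span R {x}) = bc S E ⊔ Submodule.span S {(1 : S) ⊗ₜ[R] x} := by
  apply le_antisymm
  · rw [bc, Submodule.span_le]
    rintro _ ⟨y, hy, rfl⟩
    obtain ⟨e, he, z, hz, rfl⟩ := Submodule.mem_sup.mp hy
    obtain ⟨c, rfl⟩ := Submodule.mem_span_singleton.mp hz
    rw [map_add]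
    refine add_mem (Submodule.mem_sup_left (incl_mem_bc S he)) (Submodule.mem_sup_right ?_)
    change (1 : S) ⊗ₜ[R] (c • x) ∈ _
    rw [TensorProduct.tmul_smul, ← algebraMap_smul S c]
    exact Submodule.smul_mem _ _ (Submodule.mem_span_singleton_self _)
  · refine sup_le (bc_mono S le_sup_left) ?_
    rw [Submodule.span_singleton_le_iff_mem]
    exact incl_mem_bc S (Submodule.mem_sup_right (Submodule.mem_span_singleton_self x))

theorem inclTT_mem_range_r {P : Submodule R H} {t : H ⊗[R] H}
    (ht : t ∈ LinearMap.range (LinearMap.rTensor H P.subtype)) :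
    inclTT S t ∈ LinearMap.range (LinearMap.rTensor (S ⊗[R] H) (bc S P).subtype) := by
  obtain ⟨y, rfl⟩ := ht
  induction y using TensorProduct.induction_on with
  | zero => simp
  | tmul b c =>
    refine ⟨(⟨(1 : S) ⊗ₜ[R] (b : H), incl_mem_bc S b.2⟩ : bc S P) ⊗ₜ[S] ((1 : S) ⊗ₜ[R] c), ?_⟩
    simp
  | add y z hy hz =>
    rw [map_add, map_add]
    exact add_mem hy hz

theorem Flagged.baseChange {E : Submodule R H} (hE : Flagged R H E) :
    Flagged S (S ⊗[R] H) (bc S E) := by
  induction hE with
  | bot =>
    rw [bc_bot]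
    exact Flagged.bot
  | step E x _ hx ih =>
    rw [bc_sup_span]
    refine Flagged.step _ _ ih ?_
    rw [← bc_sup_span, comul_incl]
    exact inclTT_mem_range_r S hx

end BaseChange

end Groth.Agent.Lib.Helper24.TrigSpec
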