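import Mathlib
import Groth.Agent.Lib.Helper24.TrigSpec.Flagged
import Groth.Agent.Lib.Helper25.Comod2
import Groth.Agent.Lib.Helper26.CoalgCoeff

/-!
# Helper24 — over a field: a bialgebra which is a union of flagged right coideals is trigonalizable
-/

set_option autoImplicit false
universe u v

open TensorProduct HopfRep Coalgebra

namespace Groth.Agent.Lib.Helper24.TrigSpec

open Groth.Agent.Lib.Helper25.Comod Groth.Agent.Lib.Helper26.Comod

section
variable {F : Type u} [Field F] {A : Type v} [CommRing A] [Bialgebra F A]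

theorem Flagged.isSubcomod {E : Submodule F A} (hE : Flagged F A E) :
    IsSubcomod (k := F) (A := A) (V := A) E :=
  fun y hy => hE.comul_mem y hy

theorem finrank_le_one_of_flagged {E : Submodule F A} (hE : Flagged F A E) :
    ∀ (W : Submodule F A), IsSimpleSub (V := A) A W → W ≤ E → Module.finrank F W ≤ 1 := by
  induction hE with
  | bot =>
    intro W hW hle
    exact absurd (le_bot_iff.mp hle) hW.2.1
  | step E x hE _ ih =>
    intro W hW hle
    rcases hW.2.2 (W ⊓ E) (isSubcomod_inf hW.1 hE.isSubcomod) inf_le_left with h | h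
    · -- W ⊓ E = ⊥
      obtain ⟨w₀, hw₀, hw₀0⟩ := (Submodule.ne_bot_iff _).mp hW.2.1
      obtain ⟨e₀, he₀, z₀, hz₀, hsum₀⟩ := Submodule.mem_sup.mp (hle hw₀)
      obtain ⟨c₀, rfl⟩ := Submodule.mem_span_singleton.mp hz₀
      have hc₀ : c₀ ≠ 0 := by
        rintro rfl
        rw [zero_smul, add_zero] at hsum₀
        have : w₀ ∈ W ⊓ E := ⟨hw₀, hsum₀ ▸ he₀⟩
        rw [h] at this
        exact hw₀0 ((Submodule.mem_bot F).mp this)
      refine finrank_le_one (⟨w₀, hw₀⟩ : W) ?_
      rintro ⟨w, hw⟩
      obtain ⟨e, he, z, hz, hsum⟩ := Submodule.mem_sup.mp (hle hw)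
      obtain ⟨c, rfl⟩ := Submodule.mem_span_singleton.mp hz
      refine ⟨c / c₀, Subtype.ext ?_⟩
      have hmem : w - (c / c₀) • w₀ ∈ W ⊓ E := by
        refine ⟨W.sub_mem hw (W.smul_mem _ hw₀), ?_⟩
        have : w - (c / c₀) • w₀ = e - (c / c₀) • e₀ := by
          rw [← hsum, ← hsum₀, smul_add, smul_smul, div_mul_cancel₀ c hc₀]
          abel
        rw [this]
        exact E.sub_mem he (E.smul_mem _ he₀)
      rw [h] at hmem
      have := (Submodule.mem_bot F).mp hmem
      exact (sub_eq_zero.mp this).symm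
    · exact ih W hW (h ▸ inf_le_right)

/-- a bialgebra which is the union of its flagged right coideals is trigonalizable -/
theorem isTrigonalizable_of_flagged (h : ∀ a : A, ∃ E, Flagged F A E ∧ a ∈ E) :
    IsTrigonalizable F A := by
  intro V _ _ _ hfin hV
  haveI := hV.1
  obtain ⟨v, hv⟩ := exists_ne (0 : V)
  obtain ⟨f, hf⟩ : ∃ f : V →ₗ[F] F, f v ≠ 0 := by
    by_contra hcon
    push Not at hcon
    exact hv ((Module.forall_dual_apply_eq_zero_iff F v).mp hcon)
  have hg : Hoch.IsComodHom A (Fmap (A := A) f) := isComodHom_Fmap f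
  have hgv : Fmap (A := A) f v ≠ 0 := by
    intro h0
    have := apply_Fmap (A := A) f (Coalgebra.counit (R := F) (A := A)) v
    rw [h0, map_zero, T_counit] at this
    exact hf this.symm
  have hg0 : Fmap (A := A) f ≠ 0 := fun h0 => hgv (by rw [h0]; rfl)
  have hinj := injective_of_isSimpleComod hV hg hg0
  have hW := isSimpleSub_range (V := A) hV hg hg0
  obtain ⟨E, hE, hmem⟩ := h (Fmap (A := A) f v)
  have hle : LinearMap.range (Fmap (A := A) f) ≤ E := by
    rcases hW.2.2 (LinearMap.range (Fmap (A := A) f) ⊓ E)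
      (isSubcomod_inf hW.1 hE.isSubcomod) inf_le_left with h1 | h1
    · have : Fmap (A := A) f v ∈ LinearMap.range (Fmap (A := A) f) ⊓ E := ⟨⟨v, rfl⟩, hmem⟩
      rw [h1] at this
      exact absurd ((Submodule.mem_bot F).mp this) hgv
    · exact h1 ▸ inf_le_right
  have h1 := finrank_le_one_of_flagged hE _ hW hle
  have h2 : Module.finrank F (LinearMap.range (Fmap (A := A) f)) = Module.finrank F V :=
    LinearMap.finrank_range_of_inj hinj
  have h3 : 0 < Module.finrank F V := Module.finrank_pos
  omega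

end

end Groth.Agent.Lib.Helper24.TrigSpec
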