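import Mathlib
import Groth.Agent.Lib.Helper24.TrigSpec.Flagged

/-!
# Helper24 — local finiteness of the regular comodule of a flat bialgebra over a noetherian ring

Every element of a flat bialgebra `H` over a noetherian ring `R` lies in a finitely generated right
coideal (Serre's argument).
-/

set_option autoImplicit false
universe u v

open TensorProduct Coalgebra

namespace Groth.Agent.Lib.Helper24.TrigSpec

section LocFin
variable {R : Type u} [CommRing R] {H : Type v} [CommRing H] [Bialgebra R H]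

/-- right coideals -/
def IsRCoideal (N : Submodule R H) : Prop :=
  ∀ y ∈ N, comul (R := R) y ∈ LinearMap.range (LinearMap.rTensor H N.subtype)

theorem Flagged.isRCoideal {E : Submodule R H} (hE : Flagged R H E) : IsRCoideal E :=
  fun y hy => hE.comul_mem y hy

/-- `x = (id ⊗ ε) Δ x` lies in `F` as soon as `Δ x ∈ F ⊗ H` -/
theorem mem_of_comul_mem {F : Submodule R H} {x : H}
    (hx : comul (R := R) x ∈ LinearMap.range (LinearMap.rTensor H F.subtype)) : x ∈ F := by
  obtain ⟨t, ht⟩ := hx
  have h1 : x = TensorProduct.rid R H (LinearMap.lTensor H (counit (R := R)) (comul x)) := by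
    rw [Coalgebra.lTensor_counit_comul, TensorProduct.rid_tmul, one_smul]
  rw [h1, ← ht]
  clear h1 ht
  induction t using TensorProduct.induction_on with
  | zero => simp
  | tmul f h =>
    rw [LinearMap.rTensor_tmul, LinearMap.lTensor_tmul, TensorProduct.rid_tmul]
    exact F.smul_mem _ f.2
  | add a b ha hb =>
    simp only [map_add]
    exact add_mem ha hb

variable (F : Submodule R H)

/-- `x ↦ (π_F ⊗ id) Δ x` -/
noncomputable def ψ : H →ₗ[R] (H ⧸ F) ⊗[R] H :=
  LinearMap.rTensor H F.mkQ ∘ₗ comul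

theorem mem_ker_ψ {x : H} :
    x ∈ LinearMap.ker (ψ F) ↔
      comul (R := R) x ∈ LinearMap.range (LinearMap.rTensor H F.subtype) := by
  have hex : Function.Exact (LinearMap.rTensor H F.subtype) (LinearMap.rTensor H F.mkQ) :=
    rTensor_exact H (LinearMap.exact_subtype_mkQ F) (Submodule.mkQ_surjective F)
  rw [LinearMap.mem_ker, ψ, LinearMap.comp_apply, hex (comul x)]
  rfl

theorem ker_ψ_le : LinearMap.ker (ψ F) ≤ F :=
  fun _ hx => mem_of_comul_mem ((mem_ker_ψ F).mp hx)

theorem rTensor_ψ_comul (x : H) :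
    LinearMap.rTensor H (ψ F) (comul (R := R) x) =
      (TensorProduct.assoc R (H ⧸ F) H H).symm
        (LinearMap.lTensor (H ⧸ F) (comul (R := R) (A := H)) (ψ F x)) := by
  have h1 : LinearMap.rTensor H (ψ F) =
      LinearMap.rTensor H (LinearMap.rTensor H F.mkQ) ∘ₗ LinearMap.rTensor H comul := by
    rw [ψ, LinearMap.rTensor_comp]
  have h2 : ∀ y : H ⊗[R] (H ⊗[R] H),
      LinearMap.rTensor H (LinearMap.rTensor H F.mkQ) ((TensorProduct.assoc R H H H).symm y) =
        (TensorProduct.assoc R (H ⧸ F) H H).symm (LinearMap.rTensor (H ⊗[R] H) F.mkQ y) := by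
    intro y
    rw [LinearMap.rTensor_tensor]
    simp
  have h3 : ∀ z : H ⊗[R] H,
      LinearMap.rTensor (H ⊗[R] H) F.mkQ (LinearMap.lTensor H (comul (R := R) (A := H)) z) =
        LinearMap.lTensor (H ⧸ F) (comul (R := R) (A := H)) (LinearMap.rTensor H F.mkQ z) := by
    intro z
    rw [← LinearMap.comp_apply, ← LinearMap.comp_apply, LinearMap.rTensor_comp_lTensor,
      LinearMap.lTensor_comp_rTensor]
  rw [h1, LinearMap.comp_apply, ← Coalgebra.coassoc_symm_apply, h2, h3]
  rfl

variable [Module.Flat R H]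

theorem isRCoideal_ker_ψ : IsRCoideal (LinearMap.ker (ψ F)) := by
  intro x hx
  have hex : Function.Exact (LinearMap.rTensor H (LinearMap.ker (ψ F)).subtype)
      (LinearMap.rTensor H (ψ F)) :=
    Module.Flat.rTensor_exact H (LinearMap.exact_subtype_ker_map (ψ F))
  refine (hex (comul x)).mp ?_
  rw [rTensor_ψ_comul, LinearMap.mem_ker.mp hx, map_zero, map_zero]

/-- local finiteness -/
theorem exists_fg_coideal [IsNoetherianRing R] (h : H) :
    ∃ N : Submodule R H, N.FG ∧ IsRCoideal N ∧ h ∈ N := by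
  classical
  obtain ⟨S, hS⟩ := TensorProduct.exists_finset (comul (R := R) h)
  let F : Submodule R H := Submodule.span R ((S.image Prod.fst : Finset H) : Set H)
  have hF : F.FG := ⟨S.image Prod.fst, rfl⟩
  refine ⟨LinearMap.ker (ψ F), Submodule.FG.of_le hF (ker_ψ_le F), isRCoideal_ker_ψ F, ?_⟩
  rw [mem_ker_ψ, hS]
  refine Submodule.sum_mem _ fun i hi => ?_
  have hi' : i.1 ∈ F := Submodule.subset_span (by
    rw [Finset.coe_image]
    exact ⟨i, hi, rfl⟩)
  exact ⟨(⟨i.1, hi'⟩ : F) ⊗ₜ[R] i.2, rfl⟩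

end LocFin

end Groth.Agent.Lib.Helper24.TrigSpec
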