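import Mathlib
import Groth.Agent.Lib.Helper24.TrigSpec.LocFin
import Groth.Agent.Lib.Helper24.UnipSpec.Sat

/-!
# Helper24 — intersecting a right coideal of a flat bialgebra with a right coideal of its generic
fibre gives a right coideal
-/

set_option autoImplicit false
universe u u' v w

open TensorProduct Coalgebra

namespace Groth.Agent.Lib.Helper24.TrigSpec

open Groth.Agent.Lib.Helper24.UnipSpec

section Gen
variable {k : Type u} [CommRing k] {M : Type v} [AddCommGroup M] [Module k M]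
  {A : Type w} [AddCommGroup A] [Module k A]

theorem rTensor_mkQ_of_mem_range (W : Submodule k M) {z : M ⊗[k] A}
    (hz : z ∈ LinearMap.range (LinearMap.rTensor A W.subtype)) :
    LinearMap.rTensor A W.mkQ z = 0 := by
  have hex : Function.Exact (LinearMap.rTensor A W.subtype) (LinearMap.rTensor A W.mkQ) :=
    rTensor_exact A (LinearMap.exact_subtype_mkQ W) (Submodule.mkQ_surjective W)
  exact (hex z).mpr hz

end Gen

section Inter
variable {R : Type u} [CommRing R] (K : Type u') [Field K] [Algebra R K]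
  {H : Type v} [CommRing H] [Bialgebra R H]
  {Q : Type w} [AddCommGroup Q] [Module K Q] [Module R Q] [IsScalarTower R K Q]
  (π : K ⊗[R] H →ₗ[K] Q)

/-- `h ↦ π (1 ⊗ h)` -/
noncomputable def ν : H →ₗ[R] Q :=
  (π.restrictScalars R) ∘ₗ incl K

theorem ν_apply (h : H) : ν K π h = π ((1 : K) ⊗ₜ[R] h) := rfl

theorem mem_ker_ν {h : H} : h ∈ LinearMap.ker (ν K π) ↔ π ((1 : K) ⊗ₜ[R] h) = 0 := by
  rw [LinearMap.mem_ker, ν_apply]

/-- the comparison `Q ⊗_R H → Q ⊗_K (K ⊗_R H)` -/
noncomputable def EW (x : Q ⊗[R] H) : Q ⊗[K] (K ⊗[R] H) :=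
  (TensorProduct.AlgebraTensorModule.cancelBaseChange R K K Q H).symm x

theorem EW_add (x y : Q ⊗[R] H) : EW K x + EW K y = EW K (x + y) := by
  simp only [EW, map_add]

theorem EW_zero : EW K (0 : Q ⊗[R] H) = 0 := by
  simp only [EW, map_zero]

theorem EW_tmul (q : Q) (a : H) :
    EW K (q ⊗ₜ[R] a) = q ⊗ₜ[K] ((1 : K) ⊗ₜ[R] a) := by
  simp [EW]

theorem EW_injective : Function.Injective (EW (R := R) K (H := H) (Q := Q)) := by
  intro x y h
  simp only [EW] at h
  exact (TensorProduct.AlgebraTensorModule.cancelBaseChange R K K Q H).symm.injective h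

theorem EW_nat (t : H ⊗[R] H) :
    EW K (LinearMap.rTensor H (ν K π) t) =
      LinearMap.rTensor (K ⊗[R] H) π (inclTT K t) := by
  induction t using TensorProduct.induction_on with
  | zero => simp only [map_zero, EW_zero]
  | tmul a b =>
    rw [LinearMap.rTensor_tmul, EW_tmul, inclTT_tmul, LinearMap.rTensor_tmul, ν_apply]
  | add y z hy hz => simp only [map_add, ← EW_add, hy, hz]

theorem rTensor_ν_comul_eq_zero
    (hπ : ∀ y, π y = 0 → LinearMap.rTensor (K ⊗[R] H) π (comul (R := K) y) = 0)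
    {x : H} (hx : π ((1 : K) ⊗ₜ[R] x) = 0) :
    LinearMap.rTensor H (ν K π) (comul (R := R) x) = 0 := by
  apply EW_injective K
  rw [EW_nat, EW_zero, ← comul_incl]
  exact hπ _ hx

/-- `N → Q` -/
noncomputable def μ (N : Submodule R H) : N →ₗ[R] Q := ν K π ∘ₗ N.subtype

theorem rTensor_μ (N : Submodule R H) (t : N ⊗[R] H) :
    LinearMap.rTensor H (μ K π N) t =
      LinearMap.rTensor H (ν K π) (LinearMap.rTensor H N.subtype t) := by
  rw [μ, LinearMap.rTensor_comp, LinearMap.comp_apply]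

/-- `ker μ → N ⊓ ker ν` -/
noncomputable def jj (N : Submodule R H) :
    LinearMap.ker (μ K π N) →ₗ[R] (N ⊓ LinearMap.ker (ν K π) : Submodule R H) :=
  LinearMap.codRestrict _ (N.subtype ∘ₗ (LinearMap.ker (μ K π N)).subtype)
    (fun y => ⟨y.1.2, y.2⟩)

theorem subtype_comp_jj (N : Submodule R H) :
    (N ⊓ LinearMap.ker (ν K π)).subtype ∘ₗ jj K π N =
      N.subtype ∘ₗ (LinearMap.ker (μ K π N)).subtype := rfl

variable [Module.Flat R H]

/-- the intersection of a right coideal of `H` with the preimage of a right coideal of `K ⊗ H` -/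
theorem isRCoideal_inf_ker {N : Submodule R H} (hN : IsRCoideal N)
    (hπ : ∀ y, π y = 0 → LinearMap.rTensor (K ⊗[R] H) π (comul (R := K) y) = 0) :
    IsRCoideal (N ⊓ LinearMap.ker (ν K π)) := by
  intro x hx
  obtain ⟨t, ht⟩ := hN x hx.1
  have hex : Function.Exact (LinearMap.rTensor H (LinearMap.ker (μ K π N)).subtype)
      (LinearMap.rTensor H (μ K π N)) :=
    @Module.Flat.rTensor_exact R H _ _ _ _ (LinearMap.ker (μ K π N)) N Q _ _ _ _ _ _ _ _
      (LinearMap.exact_subtype_ker_map (μ K π N))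
  have h0 : LinearMap.rTensor H (μ K π N) t = 0 := by
    rw [rTensor_μ, ht]
    exact rTensor_ν_comul_eq_zero K π hπ ((mem_ker_ν K π).mp hx.2)
  obtain ⟨s, hs⟩ := (hex t).mp h0
  refine ⟨LinearMap.rTensor H (jj K π N) s, ?_⟩
  rw [← LinearMap.comp_apply, ← LinearMap.rTensor_comp, subtype_comp_jj, LinearMap.rTensor_comp,
    LinearMap.comp_apply, hs, ht]

end Inter

section Inter'
variable {R : Type u} [CommRing R] (K : Type u') [Field K] [Algebra R K]
  {H : Type v} [CommRing H] [Bialgebra R H]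

/-- the elements of `N` whose image in the generic fibre lies in `W` -/
noncomputable def cut (N : Submodule R H) (W : Submodule K (K ⊗[R] H)) : Submodule R H :=
  N ⊓ (W.restrictScalars R).comap (incl K)

theorem mem_cut {N : Submodule R H} {W : Submodule K (K ⊗[R] H)} {x : H} :
    x ∈ cut K N W ↔ x ∈ N ∧ (1 : K) ⊗ₜ[R] x ∈ W := Iff.rfl

theorem cut_le (N : Submodule R H) (W : Submodule K (K ⊗[R] H)) : cut K N W ≤ N := inf_le_left

theorem isRCoideal_cut [Module.Flat R H] {N : Submodule R H} (hN : IsRCoideal N)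
    {W : Submodule K (K ⊗[R] H)} (hW : IsRCoideal W) : IsRCoideal (cut K N W) := by
  have h1 : cut K N W = N ⊓ LinearMap.ker (ν K W.mkQ) := by
    ext x
    rw [mem_cut, Submodule.mem_inf, mem_ker_ν, Submodule.mkQ_apply, Submodule.Quotient.mk_eq_zero]
  rw [h1]
  refine isRCoideal_inf_ker K W.mkQ hN fun y hy => ?_
  rw [Submodule.mkQ_apply, Submodule.Quotient.mk_eq_zero] at hy
  exact rTensor_mkQ_of_mem_range W (hW y hy)

end Inter'

end Groth.Agent.Lib.Helper24.TrigSpec
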