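import Mathlib
import Groth.Agent.Lib.Helper24.TrigSpec.Field
import Groth.Agent.Lib.Helper24.TrigSpec.Inter
import Groth.Agent.Lib.Helper25.Flag

/-!
# Helper24 — trigonalizability of the generic fibre makes every f.g. right coideal flagged
-/

set_option autoImplicit false
universe u v

open TensorProduct HopfRep Coalgebra

namespace Groth.Agent.Lib.Helper24.TrigSpec

open Groth.Agent.Lib.Helper24.UnipSpec Groth.Agent.Lib.Helper25.Comod

section FieldPart
variable {k : Type u} [Field k] {A : Type v} [CommRing A] [Bialgebra k A]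

/-- a codimension-one right coideal inside a finite-dimensional right coideal -/
theorem exists_codim_one (hT : IsTrigonalizable k A) {V : Submodule k A} (hV : IsRCoideal V)
    [Module.Finite k V] (n : ℕ) (hn : Module.finrank k V = n + 1) :
    ∃ W : Submodule k A, IsRCoideal W ∧ W ≤ V ∧ Module.finrank k W = n := by
  letI : Comod k A V := subComod (C := A) (V := A) V hV
  obtain ⟨F, -, -, hsub, hrank, -, -⟩ :=
    Groth.Agent.Lib.Helper25.Flag.exists_flag False
      (Groth.Agent.Lib.Helper25.Flag.source_of_isTrigonalizable hT) (n + 1) V hn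
  refine ⟨(F n).map V.subtype, ?_, Submodule.map_subtype_le V (F n), ?_⟩
  · exact isSubcomod_map (isComodHom_subtype (C := A) (V := A) V hV) (hsub n)
  · rw [Submodule.finrank_map_subtype_eq]
    exact hrank n (Nat.le_succ n)

end FieldPart

section Main
variable {R : Type u} [CommRing R] [IsDomain R] [IsPrincipalIdealRing R]
  (K : Type u) [Field K] [Algebra R K] [IsFractionRing R K]
  {H : Type u} [CommRing H] [Bialgebra R H]

omit [IsDomain R] [IsPrincipalIdealRing R] [IsFractionRing R K] in
theorem bc_eq_baseChange (N : Submodule R H) : bc K N = N.baseChange K := by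
  rw [Submodule.baseChange_eq_span, bc, Submodule.map_coe]

omit [IsDomain R] [IsPrincipalIdealRing R] [IsFractionRing R K] in
theorem finite_bc {N : Submodule R H} (hN : N.FG) : Module.Finite K (bc K N) := by
  obtain ⟨S, rfl⟩ := hN
  rw [bc_eq_baseChange, Submodule.baseChange_span]
  exact Module.Finite.span_of_finite K (Set.Finite.image _ S.finite_toSet)

omit [IsDomain R] [IsPrincipalIdealRing R] [IsFractionRing R K] in
theorem isRCoideal_bc {N : Submodule R H} (hN : IsRCoideal N) : IsRCoideal (bc K N) := by
  intro y hy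
  induction hy using Submodule.span_induction with
  | mem y hy =>
    obtain ⟨x, hx, rfl⟩ := hy
    change comul (R := K) ((1 : K) ⊗ₜ[R] x) ∈ _
    rw [comul_incl]
    exact inclTT_mem_range_r K (hN x hx)
  | zero =>
    rw [map_zero]
    exact zero_mem _
  | add a b _ _ ha hb =>
    rw [map_add]
    exact add_mem ha hb
  | smul c a _ ha =>
    rw [map_smul]
    exact Submodule.smul_mem _ c ha

omit [IsDomain R] [IsPrincipalIdealRing R] [IsFractionRing R K] in
theorem bc_cut_le (N : Submodule R H) (W : Submodule K (K ⊗[R] H)) : bc K (cut K N W) ≤ W := by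
  rw [bc, Submodule.span_le]
  rintro _ ⟨x, hx, rfl⟩
  exact ((mem_cut K).mp hx).2

/-- one step: `N` is generated by `N ∩ W` and one more element -/
theorem exists_eq_cut_sup {N : Submodule R H} (hN : N.FG) {W : Submodule K (K ⊗[R] H)}
    (hW : W ≤ bc K N) (n : ℕ) (hn : Module.finrank K (bc K N) = n + 1)
    (hWn : Module.finrank K W = n) :
    ∃ x ∈ N, N = cut K N W ⊔ Submodule.span R {x} := by
  haveI := finite_bc K hN
  -- a vector outside `W`
  have hlt : W < bc K N := by
    refine lt_of_le_of_ne hW fun h => ?_
    rw [h] at hWn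
    omega
  obtain ⟨v₀, hv₀V, hv₀W⟩ := SetLike.exists_of_lt hlt
  obtain ⟨φ, hφv, hφW⟩ := Submodule.exists_le_ker_of_notMem hv₀W
  have hker : LinearMap.ker φ ⊓ bc K N = W := by
    symm
    have hlt2 : LinearMap.ker φ ⊓ bc K N < bc K N := by
      refine lt_of_le_of_ne inf_le_right fun h => ?_
      have : v₀ ∈ LinearMap.ker φ ⊓ bc K N := by
        rw [h]
        exact hv₀V
      exact hφv (LinearMap.mem_ker.mp this.1)
    haveI : Module.Finite K (LinearMap.ker φ ⊓ bc K N : Submodule K (K ⊗[R] H)) :=
      Module.Finite.of_injective (Submodule.inclusion (inf_le_right : _ ≤ bc K N))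
        (Submodule.inclusion_injective _)
    refine Submodule.eq_of_le_of_finrank_le (le_inf hφW hW) ?_
    have := Submodule.finrank_lt_finrank_of_lt hlt2
    omega
  -- the functional on `N`
  let g : H →ₗ[R] K := (φ.restrictScalars R) ∘ₗ incl K
  have hg : ∀ y, g y = φ ((1 : K) ⊗ₜ[R] y) := fun _ => rfl
  have hI : (N.map g).FG := hN.map g
  let I' : FractionalIdeal (nonZeroDivisors R) K :=
    ⟨N.map g, FractionalIdeal.isFractional_of_fg hI⟩
  obtain ⟨c, hc⟩ := (FractionalIdeal.isPrincipal I').principal
  have hc' : N.map g = Submodule.span R {c} := hc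
  have hcmem : c ∈ N.map g := hc' ▸ Submodule.mem_span_singleton_self c
  obtain ⟨x, hx, hxc⟩ := hcmem
  refine ⟨x, hx, le_antisymm ?_ (sup_le (cut_le K N W) ?_)⟩
  · intro y hy
    have hy' : g y ∈ Submodule.span R {c} := hc' ▸ Submodule.mem_map_of_mem hy
    obtain ⟨r, hr⟩ := Submodule.mem_span_singleton.mp hy'
    have hmem : y - r • x ∈ cut K N W := by
      refine (mem_cut K).mpr ⟨N.sub_mem hy (N.smul_mem r hx), ?_⟩
      rw [← hker]
      refine Submodule.mem_inf.mpr
        ⟨LinearMap.mem_ker.mpr ?_, incl_mem_bc K (N.sub_mem hy (N.smul_mem r hx))⟩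
      rw [← hg, map_sub, map_smul, hxc, hr, sub_self]
    have : y = (y - r • x) + r • x := by abel
    rw [this]
    exact add_mem (Submodule.mem_sup_left hmem)
      (Submodule.mem_sup_right (Submodule.smul_mem _ r (Submodule.mem_span_singleton_self x)))
  · rw [Submodule.span_singleton_le_iff_mem]
    exact hx

variable [Module.Flat R H]

/-- every finitely generated right coideal is flagged -/
theorem flagged_of_fg (hT : IsTrigonalizable K (K ⊗[R] H)) :
    ∀ (n : ℕ) (N : Submodule R H), N.FG → IsRCoideal N → Module.finrank K (bc K N) ≤ n →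
      Flagged R H N := by
  intro n
  induction n with
  | zero =>
    intro N hN _ hn
    haveI := finite_bc K hN
    have h0 : bc K N = ⊥ := Submodule.finrank_eq_zero.mp (Nat.le_zero.mp hn)
    have : N = ⊥ := by
      rw [eq_bot_iff]
      intro x hx
      have h1 : (1 : K) ⊗ₜ[R] x ∈ bc K N := incl_mem_bc K hx
      rw [h0, Submodule.mem_bot] at h1
      rw [Submodule.mem_bot]
      exact incl_injective (R := R) K (h1.trans (map_zero _).symm)
    rw [this]
    exact Flagged.bot
  | succ n ih =>
    intro N hN hNc hn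
    by_cases hle : Module.finrank K (bc K N) ≤ n
    · exact ih N hN hNc hle
    have hn' : Module.finrank K (bc K N) = n + 1 := by omega
    haveI := finite_bc K hN
    obtain ⟨W, hWc, hWle, hWn⟩ := exists_codim_one hT (isRCoideal_bc K hNc) n hn'
    have hcut : Flagged R H (cut K N W) := by
      refine ih _ (Submodule.FG.of_le hN (cut_le K N W)) (isRCoideal_cut K hNc hWc) ?_
      haveI : Module.Finite K W :=
        Module.Finite.of_injective (Submodule.inclusion hWle) (Submodule.inclusion_injective _)
      have := Submodule.finrank_mono (bc_cut_le K N W)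
      omega
    obtain ⟨x, hx, hNeq⟩ := exists_eq_cut_sup K hN hWle n hn' hWn
    have hstep := Flagged.step (cut K N W) x hcut (hNeq ▸ hNc x hx)
    rw [← hNeq] at hstep
    exact hstep

/-- every element of `H` lies in a flagged right coideal -/
theorem exists_flagged (hT : IsTrigonalizable K (K ⊗[R] H)) (h : H) :
    ∃ E, Flagged R H E ∧ h ∈ E := by
  obtain ⟨N, hN, hNc, hh⟩ := exists_fg_coideal (R := R) h
  exact ⟨N, flagged_of_fg K hT _ N hN hNc le_rfl, hh⟩

/-- trigonalizability passes from the generic fibre to every field-valued fibre -/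
theorem isTrigonalizable_fibre (hT : IsTrigonalizable K (K ⊗[R] H))
    (F : Type u) [Field F] [Algebra R F] : IsTrigonalizable F (F ⊗[R] H) := by
  apply isTrigonalizable_of_flagged
  intro a
  induction a using TensorProduct.induction_on with
  | zero => exact ⟨⊥, Flagged.bot, zero_mem _⟩
  | tmul c h =>
    obtain ⟨E, hE, hh⟩ := exists_flagged K hT h
    refine ⟨bc F E, hE.baseChange F, ?_⟩
    have : c ⊗ₜ[R] h = c • ((1 : F) ⊗ₜ[R] h) := by
      rw [TensorProduct.smul_tmul', smul_eq_mul, mul_one]
    rw [this]
    exact Submodule.smul_mem _ c (incl_mem_bc F hh)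
  | add y z hy hz =>
    obtain ⟨E, hE, hy'⟩ := hy
    obtain ⟨E', hE', hz'⟩ := hz
    exact ⟨E ⊔ E', hE.sup hE', add_mem (Submodule.mem_sup_left hy') (Submodule.mem_sup_right hz')⟩

end Main

end Groth.Agent.Lib.Helper24.TrigSpec
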